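import Mathlib
import Cfsg.Agent.PERM.C3.Loc

/-! Groups with a three-centralizer containing `3^(1+4) : ((Q₈ × Q₈) : 3)`: fusion in `J`. -/

set_option autoImplicit false
set_option linter.unusedSectionVars false
set_option synthInstance.maxSize 8192
open Subgroup CL.McL3 CL.MSS QuaternionGroup
open CL.Odd hiding e3

namespace CL.C3

variable {G : Type*} [Group G] {φ : Γ →* G}

/-- `Z` is weakly closed in `Q` but not in `S` -/
structure Loc (φ : Γ →* G) : Prop extends Loc0 φ where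
  nq : ∀ g, ∀ m ∈ Qm, g * φ gz * g⁻¹ = φ m → m.v = 0
  cs : Dz φ (φ gs)

/-- words in the Siegel transformations -/
def wd (l : List (Fin 4)) : Mt :=
  l.foldr (fun i A => mm (![Um (1, 0), Um (0, 1), Wm (1, 0), Wm (0, 1)] i) A) I4

theorem mm_I (A : Mt) : mm I4 A = A := mt_ext fun v => by rw [ap_mm, ap_I4]

theorem hyp_sing : ∀ f : V4, ∃ v : V4, v ≠ 0 ∧ nn v = 0 ∧ dot f v = 0 := by decide +kernel

theorem conj_cz {g x y : G} (h : g ∈ cz x) : y * g * y⁻¹ ∈ cz (y * x * y⁻¹) := conj_mem_cz y h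

theorem coords (w : V4) : w = w.1 • e0 + w.2.1 • e1 + w.2.2.1 • e2 + w.2.2.2 • e3 := (ap_I4 w).symm

namespace Loc
variable (h : Loc φ) [Finite G]
include h

theorem DzQ {m : Γ} (hm : m ∈ Qm) (d : Dz φ (φ m)) : m.v = 0 := by
  rcases d with d | d <;> obtain ⟨c, e⟩ := isConj_iff.1 d
  · exact h.nq c m hm e
  · obtain ⟨p, rfl⟩ := mem_Qm'.1 hm
    have := h.nq c _ (inv_mem hm) (e.trans (map_inv φ _).symm)
    rwa [show (gq p.1 p.2)⁻¹ = gq (-p.1) (-p.2) from inv_eq_of_mul_eq_one_right (by gsimp; grind),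
      show (gq (-p.1) (-p.2)).v = -p.2 from rfl, neg_eq_zero] at this

theorem DzS {g : G} (hg : g ∈ Sm.map φ) (d : Dz φ g) : g ∈ JJ φ := by
  obtain ⟨m, hm, rfl⟩ := hg
  rcases cube_Sm hm (h.inj (by rw [map_pow, d.cube, map_one])) with k | ⟨w, rfl⟩
  · exact ⟨(m.c, 0, 0, 0), congrArg φ (Γ.ext rfl (h.DzQ k d).symm k.1.symm k.2.1.symm k.2.2.symm)⟩
  · exact ⟨w, rfl⟩

theorem DzU (p : V2) : Dz φ (tau φ (ap (Um p) e3)) := by
  rw [← actU p e3]; exact h.cs.cj _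

theorem mem_of_basis {L : Subgroup G} {w : V4} (h0 : tau φ e0 ∈ L) (h1 : w.2.1 = 0 ∨ tau φ e1 ∈ L)
    (h2 : tau φ e2 ∈ L) (h3 : tau φ e3 ∈ L) : tau φ w ∈ L := by
  rw [coords w, tau_add, tau_add, tau_add, h.co.smul, h.co.smul, h.co.smul, h.co.smul]
  refine mul_mem (mul_mem (mul_mem (pow_mem h0 _) ?_) (pow_mem h2 _)) (pow_mem h3 _)
  exact h1.elim (fun e => by simp [e, one_mem]) fun e => pow_mem e _

theorem wcJ : WC (Dz φ) ⊤ (Sm.map φ) (JJ φ) := ⟨fun g _ d => d.cj g, h.sylS, J_le, h.Jc, fun _ => h.DzS, by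
  rintro L hL _ ⟨w, rfl⟩
  have h0 := hL _ ⟨e0, rfl⟩ Dz.z
  have h3 := hL _ ⟨e3, rfl⟩ h.cs
  have k : ∀ p, tau φ (e3 - e0 - ap (Um p) e3) ∈ L := fun p => by
    rw [h.co.sub, h.co.sub]; exact mul_mem (mul_mem h3 (inv_mem h0)) (inv_mem (hL _ ⟨_, rfl⟩ (h.DzU p)))
  exact h.mem_of_basis h0 (.inr ((show e3 - e0 - ap (Um (1, 0)) e3 = e1 by decide) ▸ k _))
    ((show e3 - e0 - ap (Um (0, 1)) e3 = e2 by decide) ▸ k _) h3⟩

theorem Dz_neg {v : V4} : Dz φ (tau φ (-v)) ↔ Dz φ (tau φ v) := by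
  rw [h.co.neg]; exact ⟨fun d => by simpa using d.inv, Dz.inv⟩

theorem Dz_act {g : G} {A : Mt} (e : Act (tau φ) g A) {v : V4} : Dz φ (tau φ (ap A v)) ↔ Dz φ (tau φ v) := by
  rw [← e]; exact ⟨Dz.cj', fun d => d.cj g⟩

theorem Dz_red {v : V4} (hv : v.2.2.2 ≠ 0) : Dz φ (tau φ v) ↔ Dz φ (tau φ (nn v, 0, 0, 1)) := by
  obtain ⟨p, e | e⟩ := red_U v hv <;> rw [← h.Dz_act (actU p), e]
  exact h.Dz_neg

theorem Dz_zero {v : V4} (hv : v.2.2.2 = 0) (d : Dz φ (tau φ v)) : v = e0 ∨ v = -e0 := by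
  have h1 := h.DzQ (m := gj v) ⟨rfl, rfl, hv⟩ d
  have h2 : v ≠ 0 := by
    rintro rfl
    rw [h.co.zero, Dz, inv_one, or_self, isConj_one_left] at d
    exact h.z1 d
  clear d; revert v; decide +kernel

theorem move {v : V4} (d : Dz φ (tau φ v)) : ∃ n B, Act (tau φ) n B ∧ (ap B e0 = v ∨ ap B e0 = -v) := by
  have k : ∀ {v}, IsConj (φ gz) (tau φ v) → ∃ n B, Act (tau φ) n B ∧ ap B e0 = v := fun {v} d => by
    obtain ⟨c, e⟩ := isConj_iff.1 d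
    obtain ⟨n, -, hn, e'⟩ := h.wcJ.fusion' (u := φ gz) ⟨e0, rfl⟩ (mem_top c) ⟨v, e.symm⟩
    obtain ⟨B, hB⟩ := h.co.exists_act hn
    exact ⟨n, B, hB, h.co.inj ((hB e0).symm.trans (e'.trans e))⟩
  rcases d with d | d
  · exact (k d).imp fun _ => Exists.imp fun _ e => ⟨e.1, .inl e.2⟩
  · exact (k (h.co.neg v ▸ d)).imp fun _ => Exists.imp fun _ e => ⟨e.1, .inr e.2⟩

theorem inv_act {n : G} {B : Mt} (e : Act (tau φ) n B) : ∃ B', Act (tau φ) n⁻¹ B' ∧ (∀ v, ap B (ap B' v) = v) ∧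
    ∀ v, ap B' (ap B v) = v := by
  obtain ⟨B', e'⟩ := h.co.exists_act (inv_mem (h.co.mem_N e))
  exact ⟨B', e', fun v => h.co.inj (by rw [← e, ← e']; group), fun v => h.co.inj (by rw [← e', ← e]; group)⟩

theorem swap : ∃ n B B', Act (tau φ) n B ∧ Act (tau φ) n⁻¹ B' ∧ (∀ v, ap B (ap B' v) = v) ∧
    (ap B e0 = e3 ∨ ap B e0 = -e3) ∧ ∀ v, Dz φ (tau φ v) → (ap B' v).2.2.2 = 0 → v = e3 ∨ v = -e3 := by
  obtain ⟨n, B, e, k⟩ := h.move (v := e3) h.cs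
  obtain ⟨B', e', k1, -⟩ := h.inv_act e
  refine ⟨n, B, B', e, e', k1, k, fun v d h0 => ?_⟩
  rw [← k1 v]
  rcases h.Dz_zero h0 ((h.Dz_act e').2 d) with k2 | k2 <;> rw [k2]
  · exact k
  · rw [ap_neg]; exact k.symm.imp (fun e => by rw [e, neg_neg]) fun e => by rw [e]

theorem Dz_of {v : V4} (h0 : v ≠ 0) (hv : nn v = 0) : Dz φ (tau φ v) := by
  by_cases h3 : v.2.2.2 = 0
  · obtain rfl | rfl : v = e0 ∨ v = -e0 := by revert v; decide +kernel
    exacts [Dz.z, h.Dz_neg.2 Dz.z]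
  · rw [h.Dz_red h3, hv]; exact h.cs

theorem sing {v : V4} : Dz φ (tau φ v) ↔ v ≠ 0 ∧ nn v = 0 := by
  refine ⟨fun d => ?_, fun k => h.Dz_of k.1 k.2⟩
  by_cases h3 : v.2.2.2 = 0
  · rcases h.Dz_zero h3 d with rfl | rfl <;> decide
  refine ⟨fun e => h3 (e ▸ rfl), by_contra fun hc => ?_⟩
  obtain ⟨n, B, B', -, -, -, -, k⟩ := h.swap
  obtain ⟨w, h1, h2, h4, h5⟩ := no_ext _ _ hc
  refine (k w ?_ ((dot_ap B' w).symm.trans h2)).elim h4 h5
  rcases h1 with rfl | ⟨h1, h6 | h6⟩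
  · exact Dz.z
  · rw [h.Dz_red h1, h6]; exact (h.Dz_red h3).1 d
  · exact h.Dz_of (fun e => h1 (e ▸ rfl)) h6

theorem nn_act {g : G} {A : Mt} (e : Act (tau φ) g A) {v : V4} (hv : nn v = 0) : nn (ap A v) = 0 := by
  by_cases h0 : v = 0
  · rw [h0, ap_zero]; rfl
  · exact (h.sing.1 ((h.Dz_act e).2 (h.Dz_of h0 hv))).2

theorem exW (p : V2) : ∃ g, Act (tau φ) g (Wm p) := by
  obtain ⟨n, B, B', e, e', k1, k2, k3⟩ := h.swap
  have k4 : ∀ v : V4, v.1 = 0 → (ap B' v).2.2.2 = 0 := fun v hv => (dot_ap B' v).symm.trans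
    ((tangent _).resolve_left (fun ⟨w, h1, h2, h3, h4, h5⟩ =>
      (k3 w (h.Dz_of h1 h2) ((dot_ap B' w).symm.trans h3)).elim h4 h5) v hv)
  have k5 : ∀ q, ∃ p, Act (tau φ) (n * φ (gU q) * n⁻¹) (Wm p) := fun q => by
    have a := (e.mul (actU q)).mul e'
    generalize hM : mm (mm B (Um q)) B' = M at a
    have m1 : ∀ v : V4, v.1 = 0 → ∃ c : ZMod 3, ap M v = v + c • e3 := fun v hv => by
      obtain ⟨c, hc⟩ := ((U_facts q).1 _).2 (k4 v hv)
      rw [← hM, ap_mm, ap_mm, hc, ap_add, ap_smul, k1]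
      exact k2.elim (fun e => ⟨c, by rw [e]⟩) fun e => ⟨-c, by rw [e, smul_neg, neg_smul]⟩
    obtain ⟨α, hα⟩ := m1 e1 rfl
    obtain ⟨β, hβ⟩ := m1 e2 rfl
    have m3 : ap M e3 = e3 := by
      have : ap M (ap B e0) = ap B e0 := by
        obtain ⟨B'', e'', -, k6⟩ := h.inv_act e
        rw [← hM, ap_mm, ap_mm, h.co.uniq e' e'', k6, (ap_e _).1]; rfl
      rcases k2 with k | k <;> rw [k] at this
      · exact this
      · rwa [ap_neg, neg_inj] at this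
    have m0 : (ap M e0).1 = 1 := by
      have h1 : (ap B' (ap M e0 - e0)).2.2.2 = 0 := by
        obtain ⟨B'', e'', -, k6⟩ := h.inv_act e
        rw [sub_eq_add_neg, ap_add, ap_neg, ← hM, ap_mm, ap_mm, h.co.uniq e' e'', k6, Prod.snd_add,
          Prod.snd_add, Prod.snd_add, ((U_facts q).1 _).1]
        exact add_neg_cancel _
      have h2 : (ap B' e0).2.2.2 ≠ 0 := fun k => absurd (k3 e0 Dz.z k) (by decide)
      generalize ap M e0 = p at h1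
      rw [show p - e0 = (p.1 - 1) • e0 + (0, p.2) by simp [e0, Prod.ext_iff], ap_add, ap_smul, Prod.snd_add,
        Prod.snd_add, Prod.snd_add, k4 _ rfl, add_zero] at h1
      exact sub_eq_zero.1 ((mul_eq_zero.1 h1).resolve_right h2)
    have eM : M = (ap M e0, (0, 1, 0, α), (0, 0, 1, β), e3) := by
      obtain ⟨f0, f1, f2, f3⟩ := ap_e M
      refine Prod.ext f0.symm (Prod.ext ?_ (Prod.ext ?_ (f3.symm.trans m3)))
      · rw [← f1, hα]; simp [e1, e3]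
      · rw [← f2, hβ]; simp [e2, e3]
    exact ⟨_, a.congr (eM.trans (is_W _ _ _ m0 (h.nn_act a rfl) (eM ▸ h.nn_act a (by decide))
      (eM ▸ h.nn_act a (by decide))))⟩
  choose F hF using k5
  have hi : Function.Injective F := fun q q' k => (U_facts q).2 q' (by
    have a : ∀ q, Act (tau φ) (φ (gU q)) (mm (mm B' (Wm (F q))) B) := fun q => by
      simpa [mul_assoc] using (e'.mul (hF q)).mul e
    exact (h.co.uniq (actU q) (a q)).trans (k ▸ h.co.uniq (a q') (actU q')))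
  obtain ⟨q, rfl⟩ := Finite.injective_iff_surjective.1 hi p
  exact ⟨_, hF q⟩

theorem exwd (l : List (Fin 4)) : ∃ g, Act (tau φ) g (wd l) := by
  induction l with
  | nil => exact ⟨1, Act.one⟩
  | cons i l ih =>
    obtain ⟨g, e⟩ := ih
    obtain ⟨k, e'⟩ : ∃ k, Act (tau φ) k (![Um (1, 0), Um (0, 1), Wm (1, 0), Wm (0, 1)] i) := by
      fin_cases i
      exacts [⟨_, actU _⟩, ⟨_, actU _⟩, h.exW _, h.exW _]
    exact ⟨_, e'.mul e⟩

theorem five {g : G} (h5 : g ^ 5 = 1) {v w : V4} (h0 : v ≠ 0) (hv : nn v = 0) (hw : ∀ c : ZMod 3, w ≠ c • v)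
    (e1 : g ∈ cz (tau φ v)) (e2 : g ∈ cz (tau φ w)) : g = 1 := by
  obtain ⟨n, B, e, k⟩ := h.move (h.Dz_of h0 hv)
  obtain ⟨B', e', k1, k2⟩ := h.inv_act e
  have := h.five1 (g := n⁻¹ * g * n⁻¹⁻¹) (by rw [conj_pow, h5]; simp) (w := ap B' w) (by
    have := conj_cz (y := n⁻¹) e1
    rw [e'] at this
    rcases k with k | k
    · rwa [← k, k2] at this
    · rwa [← neg_neg v, ← k, ap_neg, k2, h.co.neg, mem_cz_comm, inv_mem_iff, mem_cz_comm] at this)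
    (fun k3 => by
      have : w = (ap B' w).1 • ap B e0 := by
        rw [← ap_smul, ← k1 w, k2]; congr 1; simp [e0, Prod.ext_iff, k3]
      rcases k with k | k <;> rw [k] at this
      exacts [hw _ this, hw (-_) (by rw [neg_smul, ← smul_neg]; exact this)])
    (e' w ▸ conj_cz e2)
  exact conj_eq_one_iff.1 this

theorem sigJ {X : Subgroup G} (h3 : (Nat.card X).Coprime 3) (hJ : JJ φ ≤ Nm X) : X = ⊥ := by
  have : IsMulCommutative (JJ φ) := ⟨⟨fun a b => Subtype.ext (h.Jc _ a.2 _ b.2)⟩⟩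
  refine le_bot_iff.1 (coprime_le_of_forall_cyclic_quotient (JJ φ) X ⊥ hJ
    (h.cJ ▸ (h3.pow_right 4).symm) fun B a hB => ?_)
  obtain ⟨v, h0, hv, hvB⟩ : ∃ v, v ≠ 0 ∧ nn v = 0 ∧ tau φ v ∈ B := by
    obtain ⟨u, rfl⟩ : a ∈ JJ φ := hB ▸ mem_sup_right (mem_zpowers a)
    have k : ∀ w, ∃ c : ZMod 3, tau φ (w - c • u) ∈ B := fun w => by
      obtain ⟨b, hb, x, hx, e⟩ := (mem_sup_of_normalizes_left (zpowers_le.2 (Tr.mem_normalizer_of_conj_mem
        fun y hy => by rwa [h.Jc _ ⟨u, rfl⟩ _ (hB ▸ mem_sup_left hy), mul_inv_cancel_right]))).1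
        (hB.ge (show tau φ w ∈ JJ φ from ⟨w, rfl⟩))
      obtain ⟨x, rfl⟩ : x ∈ JJ φ := zpowers_le.2 (h.co.mJ u) hx
      obtain ⟨c, rfl⟩ := h.co.zp.1 hx
      exact ⟨c, by rwa [h.co.sub, ← e, mul_inv_cancel_right]⟩
    choose c hc using k
    obtain ⟨v, h0, hv, hf⟩ := hyp_sing (c e0, c e1, c e2, c e3)
    refine ⟨v, h0, hv, ?_⟩
    rw [show v = v.1 • (e0 - c e0 • u) + v.2.1 • (e1 - c e1 • u) + v.2.2.1 • (e2 - c e2 • u) +
      v.2.2.2 • (e3 - c e3 • u) by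
        conv_lhs => rw [coords v, ← sub_zero (_ + _ : V4), ← zero_smul (ZMod 3) u, ← hf, dot]
        module, tau_add, tau_add, tau_add, h.co.smul, h.co.smul, h.co.smul, h.co.smul]
    exact mul_mem (mul_mem (mul_mem (pow_mem (hc _) _) (pow_mem (hc _) _)) (pow_mem (hc _) _)) (pow_mem (hc _) _)
  obtain ⟨n, A, e, k⟩ := h.move (h.Dz_of h0 hv)
  have hn := h.co.mem_N e
  have : n⁻¹ •ᶜ (X ⊓ cz (tau φ v)) = ⊥ := h.sig_z
    (by rw [card_cj]; exact h3.coprime_dvd_left (card_dvd_of_le inf_le_left))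
    (cj_le_iff.2 (by
      rw [inv_inv, cj_centralizer_singleton, show φ gz = tau φ e0 from rfl, e]
      rcases k with k | k <;> rw [k]
      · exact inf_le_right
      · exact fun g hg => by rw [h.co.neg, mem_cz_comm, inv_mem_iff, mem_cz_comm]; exact hg.2))
    (by
      rw [Nm, ← cj_normalizer, ← cj_eq_of_mem_normalizer (inv_mem hn)]
      exact cj_mono _ (le_normalizer_inf hJ fun x hx => le_normalizer (mem_cz'.2 (h.Jc _ hx _ ⟨v, rfl⟩))))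
  exact fun g hg => (cj_eq_bot_iff.1 this).le ⟨hg.1, mem_cz'.2 (hg.2 _ hvB).symm⟩

theorem Dz_N {g : G} (hg : g ∈ Nm (JJ φ)) (d : Dz φ g) : g ∈ JJ φ :=
  h.wcJ.mem_of_nm (mem_top g) hg (k := 1) d.cube d

end Loc

end CL.C3
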