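import Mathlib
import Cfsg.Agent.SPOR.W6.Ea
import Cfsg.Agent.PERM.CG2
import Cfsg.Agent.PERM.FT3Count

/-! Involutions of `O₆⁻(2) = W(E₆)` and their centralizers. -/

set_option autoImplicit false
set_option maxRecDepth 100000

namespace CL.C3

open CL.K CL.CG CL.F2M CL.MSS CL.W6 CL.Odd Cfsg
open CL.F24 (memB memB_iff nodupB nodup_of_nodupB)

section Gen

variable {G : Type*} [Group G] {φ : G → ℕ} {mul : ℕ → ℕ → ℕ} {one : ℕ}

/-- all products -/
noncomputable def prodL (mul : ℕ → ℕ → ℕ) (A B : List ℕ) : List ℕ :=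
  List.rec (motive := fun _ => List ℕ) [] (fun a _ ih => lmap (mul a) B ++ ih) A

theorem mem_prodL {A B : List ℕ} {c : ℕ} : c ∈ prodL mul A B ↔ ∃ a ∈ A, ∃ b ∈ B, mul a b = c := by
  induction A with
  | nil => simp [prodL]
  | cons a A ih =>
    change c ∈ lmap (mul a) B ++ prodL mul A B ↔ _
    rw [List.mem_append, ih, lmap_eq]; simp

theorem mem_of_prodL (C : IsCode φ mul one) {H : Subgroup G} {A B : List ℕ} (hA : ∀ c ∈ A, Mem φ H c)
    (hB : ∀ c ∈ B, Mem φ H c) : ∀ c ∈ prodL mul A B, Mem φ H c := fun c hc => by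
  obtain ⟨a, ha, b, hb, rfl⟩ := mem_prodL.1 hc
  exact C.mem_mul (hA a ha) (hB b hb)

theorem length_le_card (C : IsCode φ mul one) [Finite G] {H : Subgroup G} {L : List ℕ}
    (hL : ∀ c ∈ L, Mem φ H c) (hn : L.Nodup) : L.length ≤ Nat.card H := by
  rw [← List.toFinset_card_of_nodup hn, ← Set.ncard_coe_finset]
  refine (Set.ncard_le_ncard (t := φ '' (H : Set G)) (fun c hc => hL c (List.mem_toFinset.1 hc))
    (Set.toFinite _)).trans ?_
  rw [Set.ncard_image_of_injective _ C.inj]; rfl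

theorem complete_of_nodup (C : IsCode φ mul one) [Finite G] {H : Subgroup G} {L : List ℕ}
    (hL : ∀ c ∈ L, Mem φ H c) (hn : L.Nodup) (h : Nat.card H ≤ L.length) : ∀ g ∈ H, φ g ∈ L :=
  fun g hg => by_contra fun h' => by
    have := length_le_card C (L := φ g :: L) (List.forall_mem_cons.2 ⟨mem_code hg, hL⟩)
      (List.nodup_cons.2 ⟨h', hn⟩)
    rw [List.length_cons] at this; omega

/-- the list `L` is closed under multiplication by the generators -/
noncomputable def lstOK (mul : ℕ → ℕ → ℕ) (one : ℕ) (gs L : List ℕ) : Bool :=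
  forceL L fun P => nodupB P && memB one P &&
    lall (fun g => lall (fun x => force (mul g x) fun y => memB y P) P) gs

theorem lst_spec [Finite G] (C : IsCode φ mul one) {gs L : List ℕ}
    (hL : ∀ c ∈ L, Mem φ (gen φ gs) c) (h : lstOK mul one gs L = true) :
    (∀ g : G, g ∈ gen φ gs ↔ φ g ∈ L) ∧ Nat.card (gen φ gs : Subgroup G) = L.length := by
  rw [lstOK, forceL_eq, Bool.and_eq_true, Bool.and_eq_true, memB_iff] at h
  have h1 : ∀ g : G, g ∈ gen φ gs ↔ φ g ∈ L := fun g =>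
    ⟨gen_induction (Q := fun g => φ g ∈ L) (C.map_one ▸ h.1.2)
      (fun j hj s e g hg => by
        have := lall_iff.1 (lall_iff.1 h.2 _ (lget_mem hj)) _ hg
        rwa [force_eq, ← e, C.map_mul, memB_iff] at this) g,
      fun hg => C.mem_iff.1 (hL _ hg)⟩
  exact ⟨h1, le_antisymm (card_le_length C fun g hg => (h1 g).1 hg)
    (length_le_card C hL (nodup_of_nodupB h.1.1))⟩

/-- the table `T` conjugates involutions to representatives -/
noncomputable def tabB (mul : ℕ → ℕ → ℕ) (one : ℕ) (L R : List ℕ) (T : List (ℕ × ℕ × List ℕ)) : Bool :=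
  lall (fun e : ℕ × ℕ × List ℕ => lall (fun i => blt i (llen L)) e.2.2 &&
    force (word mul L e.2.2 one) fun h => Nat.beq (mul h e.1) (mul (lget R e.2.1) h)) T

theorem tab_spec (C : IsCode φ mul one) {H : Subgroup G} {L R : List ℕ} {T : List (ℕ × ℕ × List ℕ)}
    (hL : ∀ c ∈ L, Mem φ H c) (h : tabB mul one L R T = true) {e : ℕ × ℕ × List ℕ} (he : e ∈ T) {g r : G}
    (e1 : φ g = e.1) (e2 : φ r = lget R e.2.1) : ∃ h ∈ H, h * g * h⁻¹ = r := by
  have := lall_iff.1 h e he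
  rw [Bool.and_eq_true, force_eq, lall_iff, llen_eq] at this
  obtain ⟨k, hk, e3⟩ := C.mem_word hL (fun i hi => lt_of_blt (this.1 i hi)) (C.mem_one H)
  have := eq_of_beq this.2
  rw [← e3, ← e1, ← e2, C.map_mul, C.map_mul] at this
  exact ⟨k, hk, by rw [C.inj this, mul_inv_cancel_right]⟩

theorem mem_normalizer_gen (C : IsCode φ mul one) [Finite G] {gs : List ℕ} {g : G}
    (h : ∀ x, φ x ∈ gs → ∃ y ∈ gen φ gs, g * x = y * g) :
    g ∈ Subgroup.normalizer ((gen φ gs : Subgroup G) : Set G) := by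
  refine Subgroup.mem_normalizer_fintype fun x hx => ?_
  refine (Subgroup.closure_le ((gen φ gs).comap (MulAut.conj g).toMonoidHom)).2 (fun x hx => ?_) hx
  obtain ⟨y, hy, e⟩ := h x hx
  show g * x * g⁻¹ ∈ gen φ gs
  rwa [e, mul_inv_cancel_right]

/-- `g` normalizes the group with generators `gs` and elements `P` -/
noncomputable def nrmB (mul : ℕ → ℕ → ℕ) (gs P : List ℕ) (g : ℕ) : Bool :=
  lall (fun x => force (mul g x) fun u => lany (fun y => Nat.beq u (mul y g)) P) gs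

theorem nrm_spec (C : IsCode φ mul one) [Finite G] {gs P : List ℕ} (hP : ∀ c ∈ P, Mem φ (gen φ gs) c)
    {g : G} (h : nrmB mul gs P (φ g) = true) : g ∈ Subgroup.normalizer ((gen φ gs : Subgroup G) : Set G) :=
  mem_normalizer_gen C fun x hx => by
    have := lall_iff.1 h _ hx
    rw [force_eq, lany_iff] at this
    obtain ⟨c, hc, e⟩ := this
    obtain ⟨y, hy, rfl⟩ := hP c hc
    have := eq_of_beq e
    rw [C.map_mul, C.map_mul] at this
    exact ⟨y, hy, C.inj this⟩

/-- an abelian subgroup of order 27 normalized by a conjugate of every involution -/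
structure E27 (Y E : Subgroup G) : Prop where
  le : E ≤ Y
  card : Nat.card E = 27
  comm : ∀ a ∈ E, ∀ b ∈ E, a * b = b * a
  syl : ¬ 243 ∣ Nat.card G
  inv : ∀ i ∈ Y, i * i = 1 → ∃ g ∈ Y, g * i * g⁻¹ ∈ Subgroup.normalizer (E : Set G)

theorem comm_gen (C : IsCode φ mul one) {gs : List ℕ} (hL : ∀ c ∈ gs, Mem φ ⊤ c)
    (h : lall (commB mul gs) gs = true) : ∀ a ∈ gen φ gs, ∀ b ∈ gen φ gs, a * b = b * a := fun a ha b hb => by
  refine mem_cz'.1 ((Subgroup.closure_le (cz b)).2 (fun x hx => mem_cz'.2 ?_) ha)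
  have := C.comm_of_commB hL (mem_top x) (lall_iff.1 h _ hx) b hb
  rw [C.elt_code] at this; exact this.symm

end Gen

attribute [local irreducible] gcode vcode wc

instance : Finite GW := Nat.finite_of_card_ne_zero (by rw [card_GW]; decide)

theorem memT {r s : ℕ} (h : sqB (mm r r) r s = true) : Mem wc ⊤ r := (sqB_spec h).1
theorem mem3 {r s : ℕ} (h : sqB r s r = true) : Mem wc G0 r := (sqB_spec h).2

/-- the simple reflections -/
def L6 : List ℕ := [0x810205081, 0x810284081, 0x810304085, 0x81820c281, 0xc10604081, 0x830204081]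
/-- generators of the commutator subgroup -/
def LG : List ℕ := [0x810345084, 0x81a28e201, 0x81c308385, 0xe1840c281, 0xc20604081, 0x810301085,
  0x81808c281, 0x81810c28d, 0xc0861c681, 0x430e04081]

theorem mem_L6 : ∀ c ∈ L6, Mem wc ⊤ c := fun c hc =>
  memT (s := c) (lall_iff.1 (show lall (fun c => sqB (mm c c) c c) L6 = true by decide +kernel) c hc)
theorem mem_LG : ∀ c ∈ LG, Mem wc G0 c := fun c hc =>
  mem3 (s := mm c c) (lall_iff.1 (show lall (fun c => sqB c (mm c c) c) LG = true by decide +kernel) c hc)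

/-- class of size `N` -/
noncomputable def clsB (x N A P S : ℕ) : Bool :=
  force (mkTree 36 0xfffffffff (cj mm L6 L6) (fld 3 7 A) (fld 10 1023 P) N x) fun T =>
    treeB (cj mm L6 L6) (fld 36 0xfffffffff T) (fld 3 7 A) (fld 10 1023 P) 6 N x &&
      injB (fld 36 0xfffffffff T) (fld 10 1023 S) N

theorem cls_spec {x : GW} {N A P S : ℕ} (h : clsB (wc x) N A P S = true) :
    N * Nat.card (cz x) ≤ 51840 := by
  rw [clsB, force_eq, Bool.and_eq_true] at h
  choose t ht e using CW.cj_tree' mem_L6 mem_L6 (by simp [L6]) (by simp [L6]) (by decide +kernel) h.1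
  have h1 := card_kl ⊤ x
  rw [top_inf_eq, Subgroup.card_top, card_GW] at h1
  rw [← h1]
  refine Nat.mul_le_mul_right _ ?_
  have := Finset.card_le_card_of_injOn (s := Finset.univ) (t := kl ⊤ x)
    (fun i : Fin N => t i i.2 * x * (t i i.2)⁻¹) (fun i _ => mem_kl.2 ⟨_, trivial, rfl⟩)
    fun i _ j _ k => Fin.ext (injB_spec h.2 _ i.2 _ j.2 (by rw [e _ i.2, e _ j.2]; exact congrArg wc k))
  simpa using this

/-- representatives of the classes of involutions -/
def RR : List ℕ := [0x990204093, 0x81d14498c, 0x810304085, 0xfa65bd4f7]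

theorem mem_RR : ∀ c ∈ RR, Mem wc ⊤ c := fun c hc =>
  memT (s := c) (lall_iff.1 (show lall (fun c => sqB (mm c c) c c) RR = true by decide +kernel) c hc)

/-- product of four orthogonal reflections -/
noncomputable def tm : GW := elt wc 0x990204093
/-- product of two orthogonal reflections -/
noncomputable def dm : GW := elt wc 0x81d14498c
/-- a reflection -/
noncomputable def rm : GW := elt wc 0x810304085
/-- product of three orthogonal reflections -/
noncomputable def jm : GW := elt wc 0xfa65bd4f7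

theorem c_tm : wc tm = 0x990204093 := (mem_RR _ (by simp [RR])).code_elt
theorem c_dm : wc dm = 0x81d14498c := (mem_RR _ (by simp [RR])).code_elt
theorem c_rm : wc rm = 0x810304085 := (mem_RR _ (by simp [RR])).code_elt
theorem c_jm : wc jm = 0xfa65bd4f7 := (mem_RR _ (by simp [RR])).code_elt

theorem le_tm : 45 * Nat.card (cz tm) ≤ 51840 := cls_spec (A := 0x28db0c040244245a45c45ca5ca5cae5540)
  (P := 0x2a0a0270942308c200801f0781c06c1a0641905c160541505012044110400f0340d0300b0280902007018060140400c03008010040000000)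
  (S := 0xb0180f02804004020000700c1d05c2207011058080140c06013034090480e0842406c1f0942708023054190681e0a8290a026050100ac2c) (by rw [c_tm]; decide +kernel)

theorem le_dm : 270 * Nat.card (cz dm) ≤ 51840 := cls_spec
  (A := 0x40270049c96a70209b954aacad39184d392a76baed41c96a4e472d76562d5554540a5a8c72cb2b128aaa34a35b82a469ae5944a2aa8d66bae4a2a35d72515546b95d72396515572c151ae094272c629aab822ae275570455d7118d5711a646aa31c68c640)
  (P := 0x42d0841d0340901400fe3e0f63d4f43ccf23bcee3a8e839ce538ce2384e037cde374dc36cda360d8358d634cd3344d0338cd330cb328c931cc6314c430cc3304bf2f8be2ecbb2dcb62d8b52d0b02bcae2b4ad2acaa2a4a7298a5290a328ca027c9e2789e2709b26c9925c9525495250912408e2348c2288a2288821c862148320881200802007f1f87e1f47d1ec7b1ec781e0761d8751d4741c4701bc6f1b46d1ac6b1a86a1a067198651946418c6318862180601805f17c5b1685a164591605614c5113c4f13c4e1384c1304b1284912448120461184611445110430f83c0f03b0e83a0e4380dc360d8340d0330cc320c4300c02e0b82e0b42d0b02c0ac290a427098250902308c230842107c1f0781e0741d0701c06c1b0681a0641705c16058150541405011044100400f03c0f0380e02c0a02809024090200701805014050100300c020080100401004000000000000)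
  (S := 0x19c0a3147f268a1124103749d2e0c2214da0109f2e8c0194ef020bc350d90b81b3c8a22f4d5120fe044c135ceb14c1720ca5184790d81f29cc41f0960a4411908111c5e0e0db3b4fd3c4212a8c921cde318a6224ac1a4c82a08432cf6408e3384f839104424f73e5052ace03d0ca388c7070302c41412ccf03cd0074093983208c3a39c153e8250ec2c160440ac1a1d0e83b0fb3f057008df014f3000f0004ff0390041806420b540d0c3490a251013d41202c1942d0d00c0741c0c2207e1e060290181a0a02547b30c202a4992787d2fc0d218b62f89b3601312893270b70bcdc198b42ecd33b822200631145a0a87328c8217c750dc54188460b44315442344d63a8e90e4561308d0c46c1ac4d1a8af0908b2283d0ccb0078351408c138cd058281b8ad0f0593385c1dcae098e50f8cc1743f148341c49113c6f1002723cb21b48e1e89716c762e49814472248702cc90) (by rw [c_dm]; decide +kernel)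

theorem le_jm : 540 * Nat.card (cz jm) ≤ 51840 := cls_spec
  (A := 0x913a0291b4e5ac208096860049302360549cb5809c09c0126004e5a284c009109a45c09a6004ab45ca2a09c8d39424da4cb9636004932e5154a984916e589c29872a31d21245da9ca8a72d4e52db12a71d89171c96572849175c72a32bb116e4adcae18e295d88d94ba8b4e54656e54656e4714aecb1a2e5965ac4b522dca6595d8dc96a96992bb2576088bb04aec4e232bb2576496c95d8c38a57458a575170caecb14b51b1caec16295d8ac72bb0d825760b14aec46c72bb11b188ec46c62c6a3b11b18b1ab1a363440)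
  (P := 0x8461083a0d82a08819f87d1f37c9ef7b5ec7ade97a1e8799e5789e1775d7751d2741cf735ca725c6715c2705c06f9bc6edba6ddb76d9b46c9b16c1af6b9ac6b1ac6a9a96a1a6695a468da26819f679946498f6398d631896218761585609826057f5fd7e5f57c5ed7a5d9755d1715bd6f5b96d5b16b5a9695956559163589615795e5755d5715b5695a56559561575595555153549515414f5214751543509404fd3e4f53c4e1374dd364cd334c9314c12f4b52c4ad2a4a5284a12749d2549124489214811f4791e4751c46d1a4691946117459124451043d0e4350d4350c42d0541102405003f8fe3f4fb3e8fa3e4f83dcf73dcf63d4f43ccf23c8f13c0ef3bced3b0ea3a4e7398e6390e3388e1384df378de36cda364d835cd6358d5354d2344d033cce334cd330ca324c831cc6314c5314c430cc3308c2304c1300bf2f8bd2f0bc2ecb92e0b62d4b42ccb12c0af2b8ad2b4ac2b0a92a0a528ca2288a027c9e2789d26c9a264982609825c96258952509324c93248912448f2388d22c8a2248821c87218862148521484210812007f1f87d1f07b1e87a1e8761d4741d0731cc721c06f1b86e1b46c1ac6a1a8691a4691a067198651906418c621846117c5d1705c16c5b168591645816058158551545314852148511405013c4f13c4e1344c1304b1284a124491204711c461184410841100400fc3e0f83d0f43d0f43c0ec3a0e4380e0370dc360d8360d4340d0330cc330c8310c02f0b82e0b42d0b02c0b02b0a8290a4290a0280a0250902408c2308c2208822084200801f07c1f0781e0781d0701c06c1b06c1a0681a05c1605815054150501405013048120441104411040100400f0380e0340d0340d0300c0300c02c0a0240902409020080200801c0701c0701805010040100400c0300c030080200802004010040100400000000000000000)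
  (S := 0x1245f004b5021193857627929409880e0cb1f42c000442101e3048671c7356dd4598753f03706cb001d0e069016196d6ed37595d31ed2e3540d2280237c4633dad481f4359ba808d157c7a1a41038003238d06bd347acc248580044335802d0a142030e74cdea64a0b5fd1a734361d1b5214bb10079138220242707c7f3186f695587443d1a0150f032050040644f27cf8265e3805ab3c4ac2545816ca408c5729452494c8548f660d9d185490a46564e0c85ddb190b87c1ce2f1ff6c98b7bc70268c93f4cc4b1ed75a0f5752b6ccc73e5265712a611b1629ee63db67b1316dd8e58dd57cd8d839d7769f1835907c9d980db8845d8862044c1615892f335b03f9898412d8658c721a37e1565e9e0715a7851a8791fb73de681a0082615605a97859e461472fd1d68208859df47174795dd5e6055d5437191e391fc701f56557c84d394897d72dca5ddfe726127f61b5ee1a170210900b25cda1b88059128315006f96b510b2144160186b1f89834d876e4f7339f73951f2b4481641d12cca4e0d8441852bd274356c6590b2483e03c2f3e8d74d57074889565696fd3a0d48c04c41310391d8fb4c95a645ae48d7e730e218c870ac6d1f0d2579ac3a54b7a1787d9bc0b86a789826a8251785a274b42351438cdc1504a25a07741e705c430fc7220c42220c040ca11b0c3691574905d2acb341cf52b951430a7421487a60a684bd45db467d1b779452e4e6198be541991899c245403c16a2e9463bdbd3d1c10a94a11d6e2510f3a06724d6f6893d50434140de28d131e0ec53d98551943b41208115158b60ec8f3c9c2555f907111038ea2c44d22c3170cf3699dc2dc0a01490180261141854dfa29877204d93753c2894d4159b5a1062083a3513645973154ee2a54e428aa3ad125c94c5c5c41c49b0c04c3fc9c2805336d3e4ed972a13f4250466967)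 (by rw [c_jm]; decide +kernel)

theorem gen_le_cz {x : GW} {L : List ℕ} (hL : ∀ c ∈ L, Mem wc ⊤ c) (h : commB mm L (wc x) = true) :
    gen wc L ≤ cz x := fun g hg => mem_cz'.2 (by
  have := CW.comm_of_commB hL (mem_top x) h g hg
  rwa [CW.elt_code] at this)

theorem two_dvd {x : GW} {L : List ℕ} (h1 : lall (fun c => sqB (mm c c) c (mm c (mm c c))) L = true)
    (h2 : plOK mm c1 L = true) (h3 : commB mm L (wc x) = true) : 2 ^ L.length ∣ Nat.card (cz x) := by
  have hL : ∀ c ∈ L, Mem wc ⊤ c := fun c hc => memT (lall_iff.1 h1 c hc)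
  exact (pl_spec CW hL h2).2 ▸ Subgroup.card_dvd_of_le (gen_le_cz hL h3)

theorem nine_dm {D : Subgroup GW} (h : D ≤ cz dm) : Nat.card D ≠ 9 := fun e => by
  have h1 := two_dvd (x := dm) (L := [0x1084203fd, 0x1017600b0, 0x1057600b0, 0x101f60ad0, 0x101f60090])
    (by decide +kernel) (by decide +kernel) (by rw [c_dm]; decide +kernel)
  have h2 := Nat.le_of_dvd Nat.card_pos (Nat.Coprime.mul_dvd_of_dvd_of_dvd (by decide) h1
    (e ▸ Subgroup.card_dvd_of_le h))
  have := le_dm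
  simp at h2; omega

theorem nine_jm {D : Subgroup GW} (h : D ≤ cz jm) : Nat.card D ≠ 9 := fun e => by
  have h1 := two_dvd (x := jm) (L := [0x290cff4c1, 0x21083d4c1, 0x166f170b7, 0x141f30090])
    (by decide +kernel) (by decide +kernel) (by rw [c_jm]; decide +kernel)
  have h2 := Nat.le_of_dvd Nat.card_pos (Nat.Coprime.mul_dvd_of_dvd_of_dvd (by decide) h1
    (e ▸ Subgroup.card_dvd_of_le h))
  have := le_jm
  simp at h2; omega

theorem five_rm : ∃ g : GW, g ^ 5 = 1 ∧ g ≠ 1 ∧ g ∈ cz rm := by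
  obtain ⟨g, -, e⟩ := memT (r := 0xc26144777) (s := powC mm c1 0xc26144777 4) (by decide +kernel)
  refine ⟨g, ?_, ?_, mem_cz'.2 ?_⟩
  all_goals simp only [← CW.inj.eq_iff, ne_eq, pow_succ, pow_zero, one_mul, ← CW.map_mul, CW.map_one, e, c_rm]
  all_goals decide +kernel

/-- conjugating the involutions of `T1` to the representatives -/
def TAB : List (ℕ × ℕ × List ℕ) := [
  (0x81038212b, 0, [4,8]), (0x8163840a3, 0, [9]), (0x81620210f, 1, [0,1,4,3,1,5,3]), (0x9962040b3,
  0, [4]), (0x99638211f, 1, [0,1,4,3,0,1,5]), (0x990384097, 1, [0,1,4,3,1,5]), (0x99020213d, 1,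
  [0,3,1,5,9,1,5]), (0x990204093, 0, []), (0x99038213f, 1, [0,4,3,1,5,8]), (0x9963840b7, 1,
  [0,3,1,9,1,5]), (0x99620211d, 1, [0,1,4,3,1,2,0]), (0x8162040a7, 1, [0,4,3,1,5]), (0x81638210d,
  1, [0,1,4,1,5,1,8,5]), (0x810384085, 1, [0,1,4,3,1,2,0,8]), (0x810202129, 0, [9,6]),
  (0xe0471058d, 1, [0,1,0,4,6,0]), (0xf82696413, 1, [1,5,1,4,1]), (0xf8471059f, 1, [0,1,4,5,1]),
  (0xe02696401, 1, [1,2,1,4,3,0]), (0xc10704085, 1, [0,1,4,2,0,1]), (0xd90684093, 1, [1,5,1,4]),
  (0xd90704097, 1, [0,1,4,5]), (0xc10684081, 1, [1,4,5,1,4,2]), (0xf0421059d, 1, [0,1,4,5,6]),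
  (0xf02216413, 1, [1,4,5,1,4]), (0xe8421058f, 1, [0,1,4,2,0]), (0xe82216401, 1, [1,5,1,4,7]),
  (0xc10604081, 2, [3,2]), (0xc1078212b, 3, [6,4,2,5]), (0xd90784097, 2, [3,1]), (0xd9060213d, 3,
  [0,9,1,5]), (0xd90604093, 3, [1,4,1,2,0]), (0xd9078213f, 3, [0,1,9,6,5]), (0xc10784085, 3,
  [1,0,4,1,5,1]), (0xc10602129, 3, [3,1,2,0,9]), (0x810304085, 2, []), (0x8162840a7, 3,
  [1,0,9,6,5,3]), (0x9963040b7, 3, [1,9,6,5,2]), (0x990284093, 3, [1,4,2,8,5]), (0x990304097, 3,
  [1,0,4,1,5,8]), (0x9962840b3, 3, [1,9,2,5]), (0x8163040a3, 3, [1,2,4,8,5]), (0x810284081, 2,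
  [6,2])]

/-- generators of `O₂(C(tm))` -/
def LTh : List ℕ := [0xe02696401, 0xc10684081, 0x990204093, 0x81620210f, 0x810384085]

theorem mem_T0 {g : GW} (h : g ∈ T1) (h0 : g ∈ G0) : g ∈ T0 := by
  have hle : T0 ≤ T1 := Subgroup.closure_mono fun _ h => List.mem_cons_of_mem _ h
  exact (sylIn_T0.max (T1 ⊓ G0) (sylIn_T1.pgroup.to_inf_left) (le_inf hle T0_le) inf_le_right).le ⟨h, h0⟩

theorem cls1 {g : GW} (hg : g ∈ T1) (h2 : g * g = 1) (h1 : g ≠ 1) : ∃ h ∈ G0,
    (h * g * h⁻¹ = tm ∧ (wc g ∈ pl mm c1 LTh → g = tm)) ∨ h * g * h⁻¹ = dm ∨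
      (g ∉ G0 ∧ (h * g * h⁻¹ = rm ∨ h * g * h⁻¹ = jm)) := by
  have key : plK mm c1 (0xc10604081 :: LT) (fun P => plK mm c1 LT fun P0 => plK mm c1 LTh fun P1 =>
      lall (fun c => !Nat.beq (mm c c) c1 || Nat.beq c c1 || lany (fun e : ℕ × ℕ × List ℕ =>
        Nat.beq c e.1 && ((Nat.beq e.2.1 0 && (!memB c P1 || Nat.beq c 0x990204093)) || Nat.beq e.2.1 1 ||
          (!memB c P0 && (Nat.beq e.2.1 2 || Nat.beq e.2.1 3)))) TAB) P) = true := by decide +kernel
  have k2 : tabB mm c1 LG RR TAB = true := by decide +kernel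
  rw [plK_eq, plK_eq, plK_eq, lall_iff] at key
  have h3 := key _ ((T1_spec.1 g).1 hg)
  rw [CW.map_mul, h2, CW.map_one, Nat.beq_refl] at h3
  simp only [Bool.not_true, Bool.false_or, Bool.or_eq_true, Bool.and_eq_true, lany_iff, Nat.beq_eq,
    Bool.not_eq_true', ← Bool.not_eq_true, memB_iff] at h3
  obtain ⟨e, he, e1, h4⟩ := h3.resolve_left fun e => h1 (CW.inj (e.trans CW.map_one.symm))
  have k := fun r => tab_spec CW mem_LG k2 he (r := r) e1
  rcases h4 with (⟨h4, h5⟩ | h4) | ⟨h5, h4 | h4⟩ <;> rw [h4] at k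
  · exact (k tm c_tm).imp fun h h6 => ⟨h6.1, .inl ⟨h6.2, fun h7 =>
      CW.inj ((h5.resolve_left (not_not.2 h7)).trans c_tm.symm)⟩⟩
  · exact (k dm c_dm).imp fun h h6 => ⟨h6.1, .inr (.inl h6.2)⟩
  · exact (k rm c_rm).imp fun h h6 => ⟨h6.1, .inr (.inr ⟨fun h0 => h5 ((T0_spec.1 g).1 (mem_T0 hg h0)),
      .inl h6.2⟩)⟩
  · exact (k jm c_jm).imp fun h h6 => ⟨h6.1, .inr (.inr ⟨fun h0 => h5 ((T0_spec.1 g).1 (mem_T0 hg h0)),
      .inr h6.2⟩)⟩

theorem conj_inv {G : Type*} [Group G] {g : G} (y : G) (h2 : g * g = 1) (h1 : g ≠ 1) :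
    y * g * y⁻¹ * (y * g * y⁻¹) = 1 ∧ y * g * y⁻¹ ≠ 1 :=
  ⟨by rw [conj_mul, h2, mul_one, mul_inv_cancel], by simpa using h1⟩

theorem cls {g : GW} (h2 : g * g = 1) (h1 : g ≠ 1) : ∃ h ∈ G0, h * g * h⁻¹ = tm ∨ h * g * h⁻¹ = dm ∨
    (g ∉ G0 ∧ (h * g * h⁻¹ = rm ∨ h * g * h⁻¹ = jm)) := by
  obtain ⟨y, hy, e⟩ : ∃ y ∈ G0, y * g * y⁻¹ ∈ T1 := by
    obtain ⟨y, -, e⟩ := sylIn_T1.exists_conj_le (R := Subgroup.zpowers g)
      (isPGroup_zpowers (k := 1) ((pow_two g).trans h2)) le_top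
    have e := e (conj_mem_cj (Subgroup.mem_zpowers g))
    by_cases hy : y ∈ G0
    · exact ⟨y, hy, e⟩
    obtain ⟨r, hr, e'⟩ : Mem wc T1 _ := mem_gen mem_LT1 _ List.mem_cons_self
    refine ⟨r * y, (Subgroup.mul_mem_iff_of_index_two index_G0).2 (iff_of_false (fun h0 => ?_) hy), ?_⟩
    · have := (T0_spec.1 r).1 (mem_T0 hr h0)
      rw [e', ← memB_iff, ← plK_eq (k := memB 0xc10604081)] at this
      exact absurd this (by decide +kernel)
    · rw [show ∀ r y g : GW, r * y * g * (r * y)⁻¹ = r * (y * g * y⁻¹) * r⁻¹ from fun _ _ _ => by group]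
      exact mul_mem (mul_mem hr e) (inv_mem hr)
  obtain ⟨h, hh, k⟩ := cls1 e (conj_inv y h2 h1).1 (conj_inv y h2 h1).2
  have e1 : h * y * g * (h * y)⁻¹ = h * (y * g * y⁻¹) * h⁻¹ := by group
  refine ⟨h * y, mul_mem hh hy, ?_⟩
  rw [e1]
  exact k.imp (·.1) (Or.imp_right fun k => ⟨fun h0 => k.1 (Subgroup.Normal.conj_mem inferInstance g h0 y), k.2⟩)

/-- `O₂(C(tm))` -/
noncomputable def Th : Subgroup GW := gen wc LTh
/-- generators of a Sylow 3-subgroup of `C(tm)` -/
def LD : List ℕ := [0xcce29c226, 0xdca59833e]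
/-- its elements -/
noncomputable def PD : List ℕ := prodL mm [c1, 0xcce29c226, 0x4de0982a7] [c1, 0xdca59833e, 0x5da79c3bf]
/-- a Sylow 3-subgroup of `C(tm)` -/
noncomputable def Dm : Subgroup GW := gen wc LD
/-- a four-group normalizing it -/
def LV : List ℕ := [0x810304085, 0x8163840a3]

theorem mem_LTh : ∀ c ∈ LTh, Mem wc T0 c := fun c hc => mem_of_pl CW (mem_gen mem_LT) c (by
  have : plK mm c1 LT (fun P => lall (fun c => memB c P) LTh) = true := by decide +kernel
  rw [plK_eq, lall_iff] at this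
  exact memB_iff.1 (this c hc))

theorem Th_spec : (∀ g, g ∈ Th ↔ wc g ∈ pl mm c1 LTh) ∧ Nat.card Th = 2 ^ 5 :=
  pl_spec CW mem_LTh (by decide +kernel)

theorem mem_L3 : ∀ c ∈ 0xbf9c4993 :: LD, Mem wc G0 c := fun c hc =>
  mem3 (s := mm c c) (lall_iff.1 (show lall (fun c => sqB c (mm c c) c) (0xbf9c4993 :: LD) = true by
    decide +kernel) c hc)

theorem mem_LD : ∀ c ∈ LD, Mem wc G0 c := fun c hc => mem_L3 c (List.mem_cons_of_mem _ hc)

theorem mem_tri {H : Subgroup GW} {a b : ℕ} (h : Mem wc H a) (e : mm a a = b) : ∀ c ∈ [c1, a, b], Mem wc H c := by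
  simp only [List.forall_mem_cons, List.not_mem_nil, IsEmpty.forall_iff, implies_true, and_true]
  exact ⟨CW.mem_one _, h, e ▸ CW.mem_mul h h⟩

theorem mem_PD {H : Subgroup GW} (h : ∀ c ∈ LD, Mem wc H c) : ∀ c ∈ PD, Mem wc H c :=
  mem_of_prodL CW (mem_tri (h _ (by simp [LD])) (by decide +kernel))
    (mem_tri (h _ (by simp [LD])) (by decide +kernel))

theorem Dm_spec : (∀ g, g ∈ Dm ↔ wc g ∈ PD) ∧ Nat.card Dm = 9 :=
  (show PD.length = 9 from rfl) ▸ lst_spec CW (mem_PD (mem_gen mem_LD)) (by decide +kernel)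

theorem mem_LV : ∀ c ∈ LV, Mem wc ⊤ c := fun c hc =>
  memT (s := c) (lall_iff.1 (show lall (fun c => sqB (mm c c) c c) LV = true by decide +kernel) c hc)

theorem Th_le : Th ≤ cz tm := gen_le_cz (fun c hc => (mem_LTh c hc).top) (by rw [c_tm]; decide +kernel)
theorem Dm_le : Dm ≤ cz tm := gen_le_cz (fun c hc => (mem_LD c hc).top) (by rw [c_tm]; decide +kernel)

/-- the elements of `C(tm)` -/
noncomputable def PC : List ℕ := prodL mm (pl mm c1 LTh) (prodL mm PD (pl mm c1 LV))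

theorem C_spec : (∀ g ∈ cz tm, wc g ∈ PC) ∧ Nat.card (cz tm) = 1152 := by
  have h1 : ∀ c ∈ PC, Mem wc (cz tm) c := mem_of_prodL CW
    (fun c hc => (mem_of_pl CW (mem_gen mem_LTh) c hc).mono Th_le) (mem_of_prodL CW
      (mem_PD fun c hc => (mem_gen mem_LD c hc).mono Dm_le) fun c hc =>
        (mem_of_pl CW (mem_gen mem_LV) c hc).mono (gen_le_cz mem_LV (by rw [c_tm]; decide +kernel)))
  have h2 : forceL PC (fun P => nodupB P && Nat.beq (llen P) 1152) = true := by decide +kernel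
  rw [forceL_eq, Bool.and_eq_true, llen_eq] at h2
  have h3 := eq_of_beq h2.2
  have h4 := le_tm
  have h5 := length_le_card CW h1 (nodup_of_nodupB h2.1)
  exact ⟨complete_of_nodup CW h1 (nodup_of_nodupB h2.1) (by omega), by omega⟩

theorem sylIn_Dm : SylIn 3 Dm (cz tm) := by
  refine sylIn_of_not_dvd_relIndex (IsPGroup.of_card (n := 2) Dm_spec.2) Dm_le ?_
  have := (Dm.subgroupOf (cz tm)).card_mul_index
  rw [Nat.card_congr (Subgroup.subgroupOfEquivOfLe Dm_le).toEquiv, Dm_spec.2, C_spec.2] at this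
  rw [Subgroup.relIndex]; omega

theorem dec_tm {g : GW} (hg : g ∈ cz tm) : ∃ θ ∈ Th, ∃ n, g = θ * n ∧
    n ∈ Subgroup.normalizer (Dm : Set GW) ∧ n ∈ Subgroup.normalizer (Th : Set GW) := by
  obtain ⟨a, ha, b, hb, e⟩ := mem_prodL.1 (C_spec.1 g hg)
  obtain ⟨θ, hθ, rfl⟩ := mem_of_pl CW (mem_gen mem_LTh) a ha
  obtain ⟨n, -, rfl⟩ := mem_of_prodL CW (mem_PD fun c hc => (mem_LD c hc).top) (mem_of_pl CW mem_LV) b hb
  have key : plK mm c1 LTh (fun P => forceL PD fun P' => lall (fun n => force n fun n => nrmB mm LD P' n &&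
      nrmB mm LTh P n) (prodL mm PD (pl mm c1 LV))) = true := by decide +kernel
  rw [plK_eq, forceL_eq, lall_iff] at key
  have := key _ hb
  rw [force_eq, Bool.and_eq_true] at this
  rw [CW.map_mul] at e
  exact ⟨θ, hθ, n, (CW.inj e).symm, nrm_spec CW (mem_PD (mem_gen mem_LD)) this.1,
    nrm_spec CW (mem_of_pl CW (mem_gen mem_LTh)) this.2⟩

theorem nrm_Th : cz tm ≤ Subgroup.normalizer (Th : Set GW) := fun g hg => by
  obtain ⟨θ, h1, n, rfl, -, h2⟩ := dec_tm hg
  exact mul_mem (Subgroup.le_normalizer h1) h2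

/-- the 128th power -/
noncomputable def p128 (c : ℕ) : ℕ := force c fun c => force (mm c c) fun c => force (mm c c) fun c =>
  force (mm c c) fun c => force (mm c c) fun c => force (mm c c) fun c => force (mm c c) fun c => mm c c

theorem p128_eq (g : GW) : p128 (wc g) = wc (g ^ 128) := by
  simp only [p128, force_eq, CW.map_mul, ← pow_two, ← pow_mul]
  norm_num

theorem sig_tm {d i : GW} (hd : d ∈ Dm) (d1 : d ≠ 1) (hi : i * i = tm) (e : d * i = i * d) {X : Subgroup GW}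
    (hX : X ≤ cz tm) (h3 : (Nat.card X).Coprime 3) (hn : d ∈ Subgroup.normalizer (X : Set GW)) : X ≤ Th := by
  have key : plK mm c1 LTh (fun P => forceL PC fun P' => lall (fun d => lall (fun g => memB g P ||
      !Nat.beq (p128 g) c1 || !Nat.beq (p128 (mm (mm (mm d g) (mm d d)) g)) c1) P') LD &&
      forceL (lfilter (fun i => Nat.beq (mm i i) 0x990204093) P') fun P'' => lall (fun d => Nat.beq d c1 ||
        memB d LD || memB (mm d d) LD || lall (fun i => !Nat.beq (mm d i) (mm i d)) P'') PD &&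
        lall (fun d => Nat.beq (mm d (mm d d)) c1) LD) = true := by decide +kernel
  simp only [plK_eq, forceL_eq, Bool.and_eq_true, lall_iff, Bool.or_eq_true, memB_iff, Bool.not_eq_true',
    ← Bool.not_eq_true, Nat.beq_eq, lfilter_eq, List.mem_filter] at key
  obtain ⟨k1, k2, k3⟩ := key
  obtain ⟨d, hd, hn⟩ : ∃ d : GW, wc d ∈ LD ∧ d ∈ Subgroup.normalizer (X : Set GW) := by
    rcases k2 _ ((Dm_spec.1 d).1 hd) with ((h | h) | h) | h
    · exact absurd (CW.inj (h.trans CW.map_one.symm)) d1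
    · exact ⟨d, h, hn⟩
    · exact ⟨d * d, CW.map_mul d d ▸ h, mul_mem hn hn⟩
    · exact absurd (by rw [CW.map_mul, CW.map_mul, e]) (h (wc i) ⟨C_spec.1 i (mem_cz'.2 (by
        rw [← hi, mul_assoc])), by rw [CW.map_mul, hi, c_tm]⟩)
  have h4 : ∀ g ∈ X, g ^ 128 = 1 := fun g hg => orderOf_dvd_iff_pow_eq_one.1
    ((h3.coprime_dvd_left (X.orderOf_dvd_natCard hg)).pow_right 2 |>.dvd_of_dvd_mul_right
      (by have := (cz tm).orderOf_dvd_natCard (hX hg); rwa [C_spec.2] at this))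
  have h5 := k3 _ hd
  rw [CW.map_mul, CW.map_mul, ← CW.map_one] at h5
  intro g hg
  rcases k1 _ hd _ (C_spec.1 g (hX hg)) with (h | h) | h
  · exact (Th_spec.1 g).2 h
  · exact absurd (by rw [p128_eq, h4 g hg, CW.map_one]) h
  · refine absurd ?_ h
    simp only [CW.map_mul]
    rw [p128_eq, h4, CW.map_one]
    rw [← inv_eq_of_mul_eq_one_right (CW.inj h5)]
    exact mul_mem (conj_mem_of_mem_normalizer hn hg) hg

theorem q8_tm {a b c : GW} (ha : a ∈ Th) (hb : b ∈ Th) (hc : c ∈ Th) (a2 : a * a = tm) (b2 : b * b = tm)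
    (c2 : c * c = tm) (h : a * b ≠ b * a) : (c * a = a * c ∧ c * b = b * c) ∨
      c ∈ [a, b, a * b, tm * a, tm * b, tm * (a * b)] := by
  have key : plK mm c1 LTh (fun P => forceL (lfilter (fun i => Nat.beq (mm i i) 0x990204093) P) fun P =>
      lall (fun a => lall (fun b => Nat.beq (mm a b) (mm b a) || lall (fun c =>
        (Nat.beq (mm c a) (mm a c) && Nat.beq (mm c b) (mm b c)) || memB c [a, b, mm a b, mm 0x990204093 a,
          mm 0x990204093 b, mm 0x990204093 (mm a b)]) P) P) P) = true := by decide +kernel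
  simp only [plK_eq, forceL_eq, Bool.and_eq_true, lall_iff, Bool.or_eq_true, memB_iff,
    Nat.beq_eq, lfilter_eq, List.mem_filter] at key
  have m : ∀ {a}, a ∈ Th → a * a = tm → wc a ∈ pl mm c1 LTh ∧ mm (wc a) (wc a) = 0x990204093 :=
    fun ha a2 => ⟨(Th_spec.1 _).1 ha, by rw [CW.map_mul, a2, c_tm]⟩
  have := (key _ (m ha a2) _ (m hb b2)).resolve_left (by rwa [CW.map_mul, CW.map_mul, CW.inj.eq_iff]) _ (m hc c2)
  simpa only [← c_tm, CW.map_mul, CW.inj.eq_iff, List.mem_cons, List.not_mem_nil] using this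

theorem inv_Th {f : GW} (hf : f ∈ Th) (f2 : f * f = 1) (f1 : f ≠ 1) (ft : f ≠ tm) :
    ∃ h ∈ G0, h * f * h⁻¹ = dm := by
  have h0 : f ∈ T0 := CW.gen_le mem_LTh hf
  obtain ⟨h, hh, k⟩ := cls1 (Subgroup.closure_mono (fun _ h => List.mem_cons_of_mem _ h) h0) f2 f1
  exact ⟨h, hh, (k.resolve_left fun k => ft (k.2 ((Th_spec.1 f).1 hf))).resolve_right fun k => k.1 (T0_le h0)⟩

theorem e27_W {Y : Subgroup GW} (hY : G0 ≤ Y) : ∃ E, E27 Y E := by
  have h0 : ∀ c ∈ prodL mm [c1, 0xbf9c4993, 0x9abcc480a] PD, Mem wc (gen wc (0xbf9c4993 :: LD)) c :=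
    mem_of_prodL CW (mem_tri (mem_gen mem_L3 _ List.mem_cons_self) (by decide +kernel))
      (mem_PD fun c hc => mem_gen mem_L3 _ (List.mem_cons_of_mem _ hc))
  have h1 := lst_spec CW h0 (by decide +kernel)
  have key : forceL (prodL mm [c1, 0xbf9c4993, 0x9abcc480a] PD) (fun P =>
      lall (nrmB mm (0xbf9c4993 :: LD) P) RR) = true := by decide +kernel
  rw [forceL_eq, lall_iff] at key
  have k : ∀ r : GW, wc r ∈ RR → r ∈ _ := fun r hr => nrm_spec CW h0 (key _ hr)
  refine ⟨_, (CW.gen_le mem_L3).trans hY, h1.2, comm_gen CW (fun c hc => (mem_L3 c hc).top)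
    (by decide +kernel), by rw [card_GW]; decide, fun i _ i2 => ?_⟩
  by_cases i1 : i = 1
  · exact ⟨1, one_mem _, by simp [i1]⟩
  obtain ⟨h, hh, e⟩ := cls i2 i1
  refine ⟨h, hY hh, k _ ?_⟩
  rcases e with e | e | ⟨-, e | e⟩ <;> simp [e, RR, c_tm, c_dm, c_rm, c_jm]

end CL.C3
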